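import Groth.Agent.Sga7.H510.SemiAct
import Groth.Agent.Sga4B.ConstLC
import Groth.Agent.Etcore.Cover

/-!
# The action of `s : X ⟶ X` on classes of `H^q(X, M)`, `q ≤ 1`, dying on a covering of `X` by copies of
a connected scheme `P` on which `s` lifts to a morphism commuting with the deck transformations
-/

set_option autoImplicit false
universe u
open CategoryTheory CategoryTheory.Limits AlgebraicGeometry Opposite Abelian
open scoped Groth.Agent.Etcore.EtInst Groth.Agent.Etcore.HC
open Groth.Agent.Etcore.EtInst Groth.Agent.Etcore.HpullCalc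
open Groth.Agent.Etcore.HC Groth.Agent.Etcore.SecPull Groth.Agent.Sga4B.ConstLC

namespace Groth.Agent.Sga7.H510.ConstAct

open SemiAct

variable {X : Scheme.{u}} {s : X ⟶ X}

/-- The global section of the constant sheaf attached to an element. -/
noncomputable def kapp (X : Scheme.{u}) (A : AddCommGrpCat.{u + 1}) (m : A) :
    EtCoh.sect ((constantSheaf X.smallEtaleTopology AddCommGrpCat.{u + 1}).obj A) (EtCoh.top X) :=
  (EtCore.constAdj X).unit.app A m

theorem constAdj_unit_app (X : Scheme.{u}) (A : AddCommGrpCat.{u + 1}) :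
    (EtCore.constAdj X).unit.app A =
      (toSheafify X.smallEtaleTopology ((Functor.const X.Etaleᵒᵖ).obj A)).app
        (op (EtCoh.top X)) := by
  have h := Adjunction.comp_unit_app
    (constantPresheafAdj AddCommGrpCat.{u + 1} (EtCore.topIsTerminal X))
    (sheafificationAdjunction X.smallEtaleTopology AddCommGrpCat.{u + 1}) A
  refine h.trans ?_
  refine Eq.trans (congrArg (fun k => k ≫ _) (constantPresheafAdj_unit_app _ _ A)) ?_
  exact Category.id_comp _

theorem unit_constToLC (X : Scheme.{u}) (A : Type (u + 1)) [AddCommGroup A] :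
    (EtCore.constAdj X).unit.app (AddCommGrpCat.of A) ≫
      (constToLC X A).hom.app (op (EtCoh.top X)) = constSec A (EtCoh.top X) := by
  have h := toSheafify_constToLC X A
  have h2 := congrArg (fun k => k.app (op (EtCoh.top X))) h
  rw [constAdj_unit_app]
  exact h2

/-- Every section of a constant sheaf over a connected scheme is a constant. -/
theorem exists_kapp (A : Type (u + 1)) [AddCommGroup A] (V : X.Etale) [ConnectedSpace V.left]
    (y : EtCoh.sect ((constantSheaf X.smallEtaleTopology AddCommGrpCat.{u + 1}).obj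
      (AddCommGrpCat.of A)) V) :
    ∃ m : A, ((constantSheaf X.smallEtaleTopology AddCommGrpCat.{u + 1}).obj
      (AddCommGrpCat.of A)).obj.map (toTop V).op (kapp X (AddCommGrpCat.of A) m) = y := by
  let f : LocallyConstant V.left A := (constToLC X A).hom.app (op V) y
  refine ⟨f (Classical.arbitrary V.left), ?_⟩
  have h1 : Function.Bijective ((constToLC X A).hom.app (op V)) := by
    have : IsIso ((constToLC X A).hom.app (op V)) := isIso_hom_app (constToLC X A) (op V)
    exact ConcreteCategory.bijective_of_isIso _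
  apply h1.1
  have h2 := ConcreteCategory.congr_hom ((constToLC X A).hom.naturality (toTop V).op)
    (kapp X (AddCommGrpCat.of A) (f (Classical.arbitrary V.left)))
  refine h2.trans ?_
  have h3 : (constToLC X A).hom.app (op (EtCoh.top X))
      (kapp X (AddCommGrpCat.of A) (f (Classical.arbitrary V.left))) =
      constSec A (EtCoh.top X) (f (Classical.arbitrary V.left)) :=
    ConcreteCategory.congr_hom (unit_constToLC X A) _
  refine (congrArg ((LC X A).obj.map (toTop V).op) h3).trans ?_
  apply LocallyConstant.ext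
  intro v
  exact (f.isLocallyConstant.apply_eq_of_preconnectedSpace v (Classical.arbitrary V.left)).symm

/-- The global constants are fixed. -/
theorem Psi_kapp (M : Type) [AddCommGroup M]
    (hs : (s : (EtCoh.top X).left ⟶ (EtCoh.top X).left) ≫ (EtCoh.top X).hom =
      (EtCoh.top X).hom ≫ s) (m : AddCommGrpCat.of (ULift.{u + 1} M)) :
    Psi (EtCore.pullConst s M).hom (V := EtCoh.top X) s hs (kapp X (AddCommGrpCat.of (ULift.{u + 1} M)) m) =
      kapp X (AddCommGrpCat.of (ULift.{u + 1} M)) m := by
  have h1 := constAdj_homEquiv_pullConstIso_inv' s (AddCommGrpCat.of (ULift.{u + 1} M))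
  rw [Adjunction.homEquiv_unit] at h1
  have h2 := congrArg (fun k => k ≫ (EtCore.gsec X).map (EtCore.pullConst s M).hom) h1
  have h3 : ((EtCore.constAdj X).unit.app (AddCommGrpCat.of (ULift.{u + 1} M)) ≫
      (EtCore.gsec X).map ((EtCore.pullConstIso s).inv.app (AddCommGrpCat.of (ULift.{u + 1} M)))) ≫
      (EtCore.gsec X).map (EtCore.pullConst s M).hom =
      (EtCore.constAdj X).unit.app (AddCommGrpCat.of (ULift.{u + 1} M)) := by
    rw [Category.assoc, ← Functor.map_comp]
    have h4 : (EtCore.pullConstIso s).inv.app (AddCommGrpCat.of (ULift.{u + 1} M)) ≫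
        (EtCore.pullConst s M).hom = 𝟙 _ := (EtCore.pullConst s M).inv_hom_id
    rw [h4, CategoryTheory.Functor.map_id]
    exact Category.comp_id _
  have h5 := h3.symm.trans h2
  have h6 : unitSec s (EtCoh.const X M) = sq s (EtCoh.const X M) (V := EtCoh.top X)
      (W := EtCoh.top X) s hs := unitSec_eq_sq s _ hs
  have h7 := ConcreteCategory.congr_hom h5 m
  refine Eq.trans ?_ h7.symm
  rw [Psi, ← h6]
  rfl

/-- Over a connected étale scheme every lift acts trivially on the sections of a constant sheaf. -/
theorem Psi_const (M : Type) [AddCommGroup M] {V : X.Etale} [ConnectedSpace V.left]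
    (γ : V.left ⟶ V.left) (hγ : γ ≫ V.hom = V.hom ≫ s) (y : EtCoh.sect (EtCoh.const X M) V) :
    Psi (EtCore.pullConst s M).hom γ hγ y = y := by
  have hs : (s : (EtCoh.top X).left ⟶ (EtCoh.top X).left) ≫ (EtCoh.top X).hom =
      (EtCoh.top X).hom ≫ s := (Category.comp_id s).trans (Category.id_comp s).symm
  obtain ⟨m, rfl⟩ := exists_kapp (ULift.{u + 1} M) V y
  have h1 := ConcreteCategory.congr_hom (res_Psi (EtCore.pullConst s M).hom (toTop V) s hs γ hγ
    (by rw [toTop_left]; exact hγ.symm)) (kapp X (AddCommGrpCat.of (ULift.{u + 1} M)) m)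
  refine h1.trans ?_
  exact congrArg ((EtCoh.const X M).obj.map (toTop V).op) (Psi_kapp M hs m)

section Geom

variable (M : Type) [AddCommGroup M] {P : Scheme.{u}} [ConnectedSpace P] {J : Type*}
  (p : J → (P ⟶ X)) [hpe : ∀ j, Etale (p j)] (hcov : ∀ x : X, ∃ (j : J) (v : P), p j v = x)
  (γ : P ⟶ P) (hγ : ∀ j, γ ≫ p j = p j ≫ s)

/-- The étale `X`-scheme `p_j : P ⟶ X`. -/
noncomputable abbrev obj (j : J) : X.Etale := Scheme.Etale.mk (p j)

instance (j : J) : ConnectedSpace (obj p j).left := inferInstanceAs (ConnectedSpace P)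

include hcov in
/-- Degree zero. -/
theorem HC_zero_eq_self (c : HH X (EtCoh.const X M) 0) (hγ : ∀ j, γ ≫ p j = p j ≫ s) :
    HC M s 0 c = c :=
  hpl_zero_eq_self (EtCore.pullConst s M).hom (obj p) hcov (fun _ => γ) hγ
    (fun j y => Psi_const M (V := obj p j) γ (hγ j) y) c

/-- The lifts of `s` to the covering. -/
noncomputable def lifts (hpair : ∀ (j j' : J) (z : (pullback (p j) (p j') : Scheme.{u})),
      ∃ (g : P ⟶ P) (hg : g ≫ p j' = p j), g ≫ γ = γ ≫ g ∧
        ∃ v : P, (pullback.lift (𝟙 P) g ((Category.id_comp _).trans hg.symm)) v = z) :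
    Lifts s (EtCore.pullConst s M).hom J where
  V := obj p
  cov := hcov
  γ := fun _ => γ
  w := hγ
  pair := by
    intro j j' W a b x
    let ze : W.left ⟶ (pullback (p j) (p j') : Scheme.{u}) := pullback.lift a.left b.left
      ((MorphismProperty.Over.w a).trans (MorphismProperty.Over.w b).symm)
    obtain ⟨g, hg, hgγ, v, hv⟩ := hpair j j' (ze x)
    let D : X.Etale := Scheme.Etale.mk (pullback.fst (p j) (p j') ≫ p j)
    let q : W ⟶ D := MorphismProperty.Over.homMk ze (by
      change ze ≫ pullback.fst (p j) (p j') ≫ p j = W.hom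
      rw [← Category.assoc, pullback.lift_fst]
      exact MorphismProperty.Over.w a) trivial
    let gr : obj p j ⟶ D := MorphismProperty.Over.homMk
      (pullback.lift (𝟙 P) g ((Category.id_comp _).trans hg.symm)) (by
        change pullback.lift (𝟙 P) g _ ≫ pullback.fst (p j) (p j') ≫ p j = p j
        rw [← Category.assoc, pullback.lift_fst, Category.id_comp]) trivial
    obtain ⟨W', e, e', x', h1, h2, -⟩ := Etcore.Cover.exists_common_over W (obj p j) q gr x v hv.symm
    have h1l := congrArg (fun k => k.left) h1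
    have h1l' : e.left ≫ ze = e'.left ≫
      pullback.lift (𝟙 P) g ((Category.id_comp _).trans hg.symm) := h1l
    refine ⟨obj p j, 𝟙 _, MorphismProperty.Over.homMk g hg trivial, γ, hγ j, W', e, e', x',
      ?_, hgγ, fun y => Psi_const M (V := obj p j) γ (hγ j) y, h2, ?_, ?_⟩
    · exact (Category.id_comp γ).trans (Category.comp_id γ).symm
    · apply MorphismProperty.Over.Hom.ext
      change e.left ≫ a.left = e'.left ≫ 𝟙 P
      have := congrArg (fun k => k ≫ pullback.fst (p j) (p j')) h1l'
      simp only [Category.assoc, pullback.lift_fst] at this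
      rw [← this, pullback.lift_fst]
      rfl
    · apply MorphismProperty.Over.Hom.ext
      change e.left ≫ b.left = e'.left ≫ g
      have := congrArg (fun k => k ≫ pullback.snd (p j) (p j')) h1l'
      simp only [Category.assoc, pullback.lift_snd] at this
      rw [← this, pullback.lift_snd]
      rfl

include hcov hγ in
/-- Degree one. -/
theorem HC_one_eq_self (hpair : ∀ (j j' : J) (z : (pullback (p j) (p j') : Scheme.{u})),
      ∃ (g : P ⟶ P) (hg : g ≫ p j' = p j), g ≫ γ = γ ≫ g ∧
        ∃ v : P, (pullback.lift (𝟙 P) g ((Category.id_comp _).trans hg.symm)) v = z)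
    (c : HH X (EtCoh.const X M) 1) (hc : ∀ j, HC M (p j) 1 c = 0) : HC M s 1 c = c := by
  refine hpl_eq_self (EtCore.pullConst s M).hom (lifts M p hcov γ hγ hpair) c (fun j => ?_)
  have h := hc j
  rw [HC_apply] at h
  have h2 : HHmap (EtCore.pullConst (p j) M).hom 1 (hp (p j) (EtCoh.const X M) 1 c) =
      HHmap (EtCore.pullConst (p j) M).hom 1 0 := by rw [h, map_zero]
  exact (HHmap_bijective (EtCore.pullConst (p j) M).hom 1).1 h2

end Geom

end Groth.Agent.Sga7.H510.ConstAct
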