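import Groth.Agent.Etcore.SecPull
import Groth.Agent.Etcore.HC
import Groth.Agent.EtpbcA.EqLocus

/-!
# Semilinear action on `H^1` of classes dying on a covering with commuting lifts

`s : X ⟶ X`, `θ : s⁻¹F ⟶ F`.  `Psi θ γ hγ : F(V) → F(V)` for a lift `γ : V ⟶ V` of `s` to an étale
`X`-scheme.  `hpl_eq_self`: a class `c ∈ H^1(X, F)` dying on a covering `V_j` is fixed by the action
`hpl s θ 1` if `s` lifts to the `V_j` and to a covering `T` of the `V_j ×_X V_j'` compatibly, acting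
trivially on `F(T)`; `hpl_zero_eq_self`: the same in degree `0`.
-/

set_option autoImplicit false
universe u
open CategoryTheory CategoryTheory.Limits AlgebraicGeometry Opposite Abelian
open scoped Groth.Agent.Etcore.EtInst Groth.Agent.Etcore.HC
open Groth.Agent.Etcore.EtInst Groth.Agent.Etcore.PullCoh Groth.Agent.Etcore.HpullCalc
open Groth.Agent.Etcore.HC Groth.Agent.Etcore.SecPull

namespace Groth.Agent.Sga7.H510.SemiAct

variable {X : Scheme.{u}} {s : X ⟶ X}

/-- The semilinear operator on sections over `V` attached to a lift `γ` of `s`. -/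
noncomputable def Psi {E : EtCoh.Ab X} (θ : (EtCoh.pull s).obj E ⟶ E) {V : X.Etale}
    (γ : V.left ⟶ V.left) (hγ : γ ≫ V.hom = V.hom ≫ s) :
    E.obj.obj (op V) ⟶ E.obj.obj (op V) :=
  sq s E γ hγ ≫ θ.hom.app (op V)

theorem Psi_nat {E E' : EtCoh.Ab X} (θ : (EtCoh.pull s).obj E ⟶ E)
    (θ' : (EtCoh.pull s).obj E' ⟶ E') (f : E ⟶ E') (h : (EtCoh.pull s).map f ≫ θ' = θ ≫ f)
    {V : X.Etale} (γ : V.left ⟶ V.left) (hγ : γ ≫ V.hom = V.hom ≫ s) :
    f.hom.app (op V) ≫ Psi θ' γ hγ = Psi θ γ hγ ≫ f.hom.app (op V) := by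
  rw [Psi, Psi, ← Category.assoc, sq_naturality, Category.assoc, Category.assoc]
  congr 1
  exact congrArg (fun k => k.hom.app (op V)) h

theorem res_Psi {E : EtCoh.Ab X} (θ : (EtCoh.pull s).obj E ⟶ E) {V V' : X.Etale} (r : V' ⟶ V)
    (γ : V.left ⟶ V.left) (hγ : γ ≫ V.hom = V.hom ≫ s)
    (γ' : V'.left ⟶ V'.left) (hγ' : γ' ≫ V'.hom = V'.hom ≫ s) (h : r.left ≫ γ = γ' ≫ r.left) :
    E.obj.map r.op ≫ Psi θ γ' hγ' = Psi θ γ hγ ≫ E.obj.map r.op := by
  have hr : r.left ≫ V.hom = V'.hom := MorphismProperty.Over.w r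
  have h1 : (γ' ≫ r.left) ≫ V.hom = V'.hom ≫ s := by rw [Category.assoc, hr, hγ']
  have h2 : (r.left ≫ γ) ≫ V.hom = V'.hom ≫ s := by rw [h, h1]
  have e1 := sq_postcomp s E γ' hγ' r h1
  have e2 := sq_precomp s E γ hγ r h2
  rw [Psi, Psi, ← Category.assoc, e1, Category.assoc]
  have e3 := θ.hom.naturality r.op
  rw [← e3, ← Category.assoc, e2]
  congr 2
  exact h.symm

/-- The map to the final object of the small étale site. -/
noncomputable def toTop (V : X.Etale) : V ⟶ EtCoh.top X := (EtCore.topIsTerminal X).from V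

theorem toTop_left (V : X.Etale) : (toTop V).left = V.hom := by
  have h : (toTop V).left ≫ (EtCoh.top X).hom = V.hom := MorphismProperty.Over.w (toTop V)
  exact (Category.comp_id _).symm.trans h

theorem comp_toTop {V W : X.Etale} (a : W ⟶ V) : a ≫ toTop V = toTop W :=
  (EtCore.topIsTerminal X).hom_ext _ _

/-- `E(V) → (V⁻¹E)(V)` -/
noncomputable def sqV (E : EtCoh.Ab X) (V : X.Etale) :
    E.obj.obj (op V) ⟶ ((EtCoh.pull V.hom).obj E).obj.obj (op (EtCoh.top V.left)) :=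
  sq V.hom E (V := V) (W := EtCoh.top V.left) (𝟙 V.left) rfl

theorem isIso_sqV (E : EtCoh.Ab X) (V : X.Etale) : IsIso (sqV E V) := by
  have : Etale V.hom := V.prop
  exact sq_isIso_of_etale V.hom E _ _ (inferInstanceAs (IsIso (𝟙 V.left)))

theorem unitSec_eq_sq {Y : Scheme.{u}} (f : Y ⟶ X) (E : EtCoh.Ab X)
    (hf : (f : (EtCoh.top Y).left ⟶ (EtCoh.top X).left) ≫ (EtCoh.top X).hom = (EtCoh.top Y).hom ≫ f) :
    unitSec f E = sq f E (V := EtCoh.top X) (W := EtCoh.top Y) f hf := by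
  have h1 : (EtCore.bcTopIso f).inv = liftBC f (V := EtCoh.top X) (W := EtCoh.top Y) f hf :=
    (EtCore.bcTopIsTerminal f).hom_ext _ _
  exact congrArg (fun m => unitApp f E (EtCoh.top X) ≫ ((EtCoh.pull f).obj E).obj.map m.op) h1

theorem sq_congr {T S : Scheme.{u}} (g : T ⟶ S) (G : EtCoh.Ab S) {V : S.Etale} {W : T.Etale}
    (q q' : W.left ⟶ V.left) (hq : q ≫ V.hom = W.hom ≫ g) (hq' : q' ≫ V.hom = W.hom ≫ g)
    (h : q = q') : sq g G q hq = sq g G q' hq' := by
  subst h; rfl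

theorem unitSec_eq_res (E : EtCoh.Ab X) (V : X.Etale) :
    unitSec V.hom E = E.obj.map (toTop V).op ≫ sqV E V := by
  have hf : (V.hom : (EtCoh.top V.left).left ⟶ (EtCoh.top X).left) ≫ (EtCoh.top X).hom =
      (EtCoh.top V.left).hom ≫ V.hom :=
    (Category.comp_id _).trans (Category.id_comp _).symm
  have h2 : ((𝟙 V.left : (EtCoh.top V.left).left ⟶ V.left) ≫ (toTop V).left) ≫ (EtCoh.top X).hom =
      (EtCoh.top V.left).hom ≫ V.hom := by
    rw [Category.id_comp, toTop_left]; exact hf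
  have h3 : (𝟙 V.left : (EtCoh.top V.left).left ⟶ V.left) ≫ (toTop V).left = V.hom := by
    rw [Category.id_comp, toTop_left]
  exact (unitSec_eq_sq V.hom E hf).trans
    ((sq_congr V.hom E (V := EtCoh.top X) (W := EtCoh.top V.left) _ _ hf h2 h3.symm).trans
      (sq_postcomp V.hom E (V := V) (V' := EtCoh.top X) (W := EtCoh.top V.left)
        (𝟙 V.left) rfl (toTop V) h2).symm)

/-- A section of the quotient whose boundary dies on `V` lifts over `V`. -/
theorem exists_lift {S : ShortComplex (EtCoh.Ab X)} (hS : S.ShortExact) (x : HH X S.X₃ 0)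
    (V : X.Etale) (h : hp V.hom S.X₁ 1 (Ext.comp x hS.extClass rfl) = 0) :
    ∃ i : EtCoh.sect S.X₂ V, S.g.hom.app (op V) i = S.X₃.obj.map (toTop V).op (H0 X _ x) := by
  rw [hp_extClass] at h
  obtain ⟨y, hy⟩ := Ext.covariant_sequence_exact₃ _ (hS.map_of_exact (EtCoh.pull V.hom))
    (hp V.hom S.X₃ 0 x) rfl h
  have h1 : HHmap ((EtCoh.pull V.hom).map S.g) 0 y = hp V.hom S.X₃ 0 x := hy
  have h2 := congrArg (H0 V.left _) h1
  rw [H0_map, hp_zero, unitSec_eq_res] at h2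
  have := isIso_sqV S.X₂ V
  have := isIso_sqV S.X₃ V
  have h3 : S.g.hom.app (op V) ≫ sqV S.X₃ V =
      sqV S.X₂ V ≫ ((EtCoh.pull V.hom).map S.g).hom.app (op (EtCoh.top V.left)) :=
    sq_naturality V.hom S.g (V := V) (W := EtCoh.top V.left) (𝟙 V.left) rfl
  refine ⟨inv (sqV S.X₂ V) (H0 V.left _ y), ?_⟩
  apply (ConcreteCategory.bijective_of_isIso (sqV S.X₃ V)).1
  have h4 := ConcreteCategory.congr_hom h3 (inv (sqV S.X₂ V) (H0 V.left _ y))
  refine h4.trans ?_
  refine Eq.trans ?_ h2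
  change ((EtCoh.pull V.hom).map S.g).hom.app (op (EtCoh.top V.left))
    (sqV S.X₂ V (inv (sqV S.X₂ V) (H0 V.left _ y))) = _
  have h5 : sqV S.X₂ V (inv (sqV S.X₂ V) (H0 V.left _ y)) = H0 V.left _ y :=
    ConcreteCategory.congr_hom (IsIso.inv_hom_id (sqV S.X₂ V)) _
  exact congrArg _ h5

/-- Compatible lifts of `s` to a covering `V_j` and to coverings of the `V_j ×_X V_j'`, the latter
acting trivially on the sections of `F`. -/
structure Lifts (s : X ⟶ X) {F : EtCoh.Ab X} (θ : (EtCoh.pull s).obj F ⟶ F) (J : Type*) where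
  V : J → X.Etale
  cov : ∀ x : X, ∃ (j : J) (v : (V j).left), (V j).hom v = x
  γ : ∀ j, (V j).left ⟶ (V j).left
  w : ∀ j, γ j ≫ (V j).hom = (V j).hom ≫ s
  pair : ∀ (j j' : J) (W : X.Etale) (a : W ⟶ V j) (b : W ⟶ V j') (x : W.left),
    ∃ (T : X.Etale) (a' : T ⟶ V j) (b' : T ⟶ V j') (δ : T.left ⟶ T.left)
      (hδ : δ ≫ T.hom = T.hom ≫ s) (W' : X.Etale) (e : W' ⟶ W) (e' : W' ⟶ T) (x' : W'.left),
      a'.left ≫ γ j = δ ≫ a'.left ∧ b'.left ≫ γ j' = δ ≫ b'.left ∧
      (∀ y : EtCoh.sect F T, Psi θ δ hδ y = y) ∧ e.left x' = x ∧ e ≫ a = e' ≫ a' ∧ e ≫ b = e' ≫ b'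

theorem toTop_surj (x : (EtCoh.top X).left) {J : Type*} (V : J → X.Etale)
    (cov : ∀ x : X, ∃ (j : J) (v : (V j).left), (V j).hom v = x) :
    ∃ (j : J) (v : (V j).left), (toTop (V j)).left v = x := by
  obtain ⟨j, v, hv⟩ := cov x
  refine ⟨j, v, ?_⟩
  rw [toTop_left]
  exact hv

/-- The operator `Psi` over the final object is the action on global sections. -/
theorem Psi_top {E : EtCoh.Ab X} (θ : (EtCoh.pull s).obj E ⟶ E)
    (hs : (s : (EtCoh.top X).left ⟶ (EtCoh.top X).left) ≫ (EtCoh.top X).hom =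
      (EtCoh.top X).hom ≫ s) (y : HH X E 0) :
    H0 X E (hpl s θ 0 y) = Psi θ (V := EtCoh.top X) s hs (H0 X E y) := by
  rw [hpl_apply, H0_map, hp_zero, unitSec_eq_sq s E hs]
  rfl

/-- Left exactness of sections. -/
theorem sections_exact (S : ShortComplex (EtCoh.Ab X)) (hS : S.Exact) [Mono S.f]
    (U : X.Etale) (t : EtCoh.sect S.X₂ U) (ht : S.g.hom.app (op U) t = 0) :
    ∃ r : EtCoh.sect S.X₁ U, S.f.hom.app (op U) r = t := by
  let T : ShortComplex AddCommGrpCat.{u + 1} :=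
    S.map (sheafToPresheaf X.smallEtaleTopology AddCommGrpCat.{u + 1} ⋙
      (evaluation _ _).obj (op U))
  have h1 : T.Exact := hS.map_of_mono_of_preservesKernel _ inferInstance inferInstance
  exact (ShortComplex.ab_exact_iff T).1 h1 t ht

/-- The difference `Ψ(i) - i` on sections. -/
noncomputable def dif {E : EtCoh.Ab X} (θ : (EtCoh.pull s).obj E ⟶ E) {V : X.Etale}
    (γ : V.left ⟶ V.left) (hγ : γ ≫ V.hom = V.hom ≫ s) (i : EtCoh.sect E V) : EtCoh.sect E V :=
  Psi θ γ hγ i - i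

theorem dif_sub {E : EtCoh.Ab X} (θ : (EtCoh.pull s).obj E ⟶ E) {V : X.Etale}
    (γ : V.left ⟶ V.left) (hγ : γ ≫ V.hom = V.hom ≫ s) (i i' : EtCoh.sect E V) :
    dif θ γ hγ (i - i') = dif θ γ hγ i - dif θ γ hγ i' := by
  rw [dif, dif, dif, map_sub]; abel

theorem res_dif {E : EtCoh.Ab X} (θ : (EtCoh.pull s).obj E ⟶ E) {V V' : X.Etale} (r : V' ⟶ V)
    (γ : V.left ⟶ V.left) (hγ : γ ≫ V.hom = V.hom ≫ s)
    (γ' : V'.left ⟶ V'.left) (hγ' : γ' ≫ V'.hom = V'.hom ≫ s) (h : r.left ≫ γ = γ' ≫ r.left)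
    (i : EtCoh.sect E V) :
    E.obj.map r.op (dif θ γ hγ i) = dif θ γ' hγ' (E.obj.map r.op i) := by
  rw [dif, dif, map_sub]
  congr 1
  exact (ConcreteCategory.congr_hom (res_Psi θ r γ hγ γ' hγ' h) i).symm

theorem app_dif {E E' : EtCoh.Ab X} (θ : (EtCoh.pull s).obj E ⟶ E)
    (θ' : (EtCoh.pull s).obj E' ⟶ E') (f : E ⟶ E') (h : (EtCoh.pull s).map f ≫ θ' = θ ≫ f)
    {V : X.Etale} (γ : V.left ⟶ V.left) (hγ : γ ≫ V.hom = V.hom ≫ s) (i : EtCoh.sect E V) :
    f.hom.app (op V) (dif θ γ hγ i) = dif θ' γ hγ (f.hom.app (op V) i) := by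
  rw [dif, dif, map_sub]
  congr 1
  exact (ConcreteCategory.congr_hom (Psi_nat θ θ' f h γ hγ) i).symm

/-- Degree one: classes dying on the `V_j` are fixed. -/
theorem hpl_eq_self {F : EtCoh.Ab X} (θ : (EtCoh.pull s).obj F ⟶ F) {J : Type*} (L : Lifts s θ J)
    (c : HH X F 1) (hc : ∀ j, hp (L.V j).hom F 1 c = 0) : hpl s θ 1 c = c := by
  -- an injective embedding and its quotient, with extended actions
  let S : ShortComplex (EtCoh.Ab X) :=
    ShortComplex.mk (Injective.ι F) (cokernel.π (Injective.ι F)) (cokernel.condition _)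
  have hS : S.ShortExact :=
    { exact := ShortComplex.exact_cokernel _
      mono_f := inferInstanceAs (Mono (Injective.ι F))
      epi_g := inferInstanceAs (Epi (cokernel.π (Injective.ι F))) }
  have hS' := hS.map_of_exact (EtCoh.pull s)
  have : Mono ((EtCoh.pull s).map S.f) := hS'.mono_f
  have : Injective S.X₂ := inferInstanceAs (Injective (Injective.under F))
  let θI : (EtCoh.pull s).obj S.X₂ ⟶ S.X₂ := Injective.factorThru (θ ≫ S.f) ((EtCoh.pull s).map S.f)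
  have hθI : (EtCoh.pull s).map S.f ≫ θI = θ ≫ S.f := Injective.comp_factorThru _ _
  have : Epi (S.map (EtCoh.pull s)).g := hS'.epi_g
  have hz : (S.map (EtCoh.pull s)).f ≫ θI ≫ S.g = 0 := by
    change (EtCoh.pull s).map S.f ≫ θI ≫ S.g = 0
    rw [← Category.assoc, hθI, Category.assoc, S.zero, comp_zero]
  let θQ : (EtCoh.pull s).obj S.X₃ ⟶ S.X₃ := hS'.exact.desc (θI ≫ S.g) hz
  have hθQ : (EtCoh.pull s).map S.g ≫ θQ = θI ≫ S.g := hS'.exact.g_desc _ hz
  let φ : S.map (EtCoh.pull s) ⟶ S :=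
    { τ₁ := θ
      τ₂ := θI
      τ₃ := θQ
      comm₁₂ := hθI.symm
      comm₂₃ := hθQ.symm }
  -- the class as a boundary
  obtain ⟨x, rfl⟩ : ∃ x : HH X S.X₃ 0, Ext.comp x hS.extClass rfl = c := by
    have h1 : Ext.comp c (Ext.mk₀ S.f) (add_zero 1) = 0 := Ext.eq_zero_of_injective _
    obtain ⟨x, hx⟩ := Ext.covariant_sequence_exact₁ _ hS c h1 rfl
    exact ⟨x, hx⟩
  choose i hi using fun j => exists_lift hS x (L.V j) (hc j)
  have hs : (s : (EtCoh.top X).left ⟶ (EtCoh.top X).left) ≫ (EtCoh.top X).hom =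
      (EtCoh.top X).hom ≫ s := (Category.comp_id s).trans (Category.id_comp s).symm
  -- glue the differences
  obtain ⟨e, he⟩ := EtpbcA.EqLocus.exists_glue S.X₂ (U := EtCoh.top X) L.V (fun j => toTop (L.V j))
    (fun y => toTop_surj y L.V L.cov) (fun j => dif θI (L.γ j) (L.w j) (i j)) (by
      intro j j' W a b _
      apply Etbase.EtSite.sect_ext
      intro y
      obtain ⟨T, a', b', δ, hδ, W', k, k', y', h1, h2, h3, h4, h5, h6⟩ := L.pair j j' W a b y
      refine ⟨W', k, y', h4, ?_⟩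
      have e1 : S.X₂.obj.map k.op (S.X₂.obj.map a.op (dif θI (L.γ j) (L.w j) (i j))) =
          S.X₂.obj.map k'.op (S.X₂.obj.map a'.op (dif θI (L.γ j) (L.w j) (i j))) := by
        rw [← EtpbcA.EqLocus.map_comp, ← EtpbcA.EqLocus.map_comp, h5]
      have e2 : S.X₂.obj.map k.op (S.X₂.obj.map b.op (dif θI (L.γ j') (L.w j') (i j'))) =
          S.X₂.obj.map k'.op (S.X₂.obj.map b'.op (dif θI (L.γ j') (L.w j') (i j'))) := by
        rw [← EtpbcA.EqLocus.map_comp, ← EtpbcA.EqLocus.map_comp, h6]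
      rw [e1, e2]
      congr 1
      rw [res_dif θI a' _ _ δ hδ h1, res_dif θI b' _ _ δ hδ h2, ← sub_eq_zero, ← dif_sub]
      obtain ⟨r, hr⟩ := sections_exact S hS.exact T
        (S.X₂.obj.map a'.op (i j) - S.X₂.obj.map b'.op (i j')) (by
          rw [map_sub, sub_eq_zero]
          have g1 := ConcreteCategory.congr_hom (S.g.hom.naturality a'.op) (i j)
          have g2 := ConcreteCategory.congr_hom (S.g.hom.naturality b'.op) (i j')
          refine g1.trans (Eq.trans ?_ g2.symm)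
          change S.X₃.obj.map a'.op (S.g.hom.app (op (L.V j)) (i j)) =
            S.X₃.obj.map b'.op (S.g.hom.app (op (L.V j')) (i j'))
          rw [hi, hi, ← EtpbcA.EqLocus.map_comp, ← EtpbcA.EqLocus.map_comp, comp_toTop, comp_toTop])
      rw [← hr, ← app_dif θ θI S.f hθI, dif, h3, sub_self, map_zero])
  -- its image in the quotient
  have hπ : S.g.hom.app (op (EtCoh.top X)) e = H0 X _ (hpl s θQ 0 x) - H0 X _ x := by
    apply Etbase.EtSite.sect_ext
    intro y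
    obtain ⟨j, v, hv⟩ := toTop_surj y L.V L.cov
    refine ⟨L.V j, toTop (L.V j), v, hv, ?_⟩
    have g1 := ConcreteCategory.congr_hom (S.g.hom.naturality (toTop (L.V j)).op) e
    refine g1.symm.trans ?_
    change S.g.hom.app (op (L.V j)) (S.X₂.obj.map (toTop (L.V j)).op e) = _
    rw [he, app_dif θI θQ S.g hθQ, hi, Psi_top θQ hs]
    refine (res_dif θQ (toTop (L.V j)) s hs (L.γ j) (L.w j) ?_ _).symm
    rw [toTop_left]
    exact (L.w j).symm
  have h7 : HHmap S.g 0 ((H0 X _).symm e) = hpl s θQ 0 x - x := by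
    apply (H0 X _).injective
    rw [H0_map, AddEquiv.apply_symm_apply, hπ, map_sub]
  have h8 := hpl_extClass s hS hS φ rfl x
  change hpl s θ 1 (Ext.comp x hS.extClass rfl) = _ at h8
  rw [h8, ← sub_eq_zero]
  have h9 : Ext.comp (hpl s φ.τ₃ 0 x) hS.extClass rfl - Ext.comp x hS.extClass rfl =
      Ext.comp (HHmap S.g 0 ((H0 X _).symm e)) hS.extClass rfl := by
    rw [h7, sub_eq_add_neg, sub_eq_add_neg, Ext.add_comp, Ext.neg_comp]
  rw [h9, HHmap_apply, Ext.comp_assoc_of_second_deg_zero, hS.comp_extClass, Ext.comp_zero]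

/-- Degree zero: if the sections over the `V_j` are fixed, so are the global sections. -/
theorem hpl_zero_eq_self {F : EtCoh.Ab X} (θ : (EtCoh.pull s).obj F ⟶ F) {J : Type*}
    (V : J → X.Etale) (cov : ∀ x : X, ∃ (j : J) (v : (V j).left), (V j).hom v = x)
    (γ : ∀ j, (V j).left ⟶ (V j).left) (w : ∀ j, γ j ≫ (V j).hom = (V j).hom ≫ s)
    (h : ∀ (j : J) (y : EtCoh.sect F (V j)), Psi θ (γ j) (w j) y = y)
    (c : HH X F 0) : hpl s θ 0 c = c := by
  have hs : (s : (EtCoh.top X).left ⟶ (EtCoh.top X).left) ≫ (EtCoh.top X).hom =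
      (EtCoh.top X).hom ≫ s := (Category.comp_id s).trans (Category.id_comp s).symm
  apply (H0 X F).injective
  rw [Psi_top θ hs]
  apply Etbase.EtSite.sect_ext
  intro y
  obtain ⟨j, v, hv⟩ := toTop_surj y V cov
  refine ⟨V j, toTop (V j), v, hv, ?_⟩
  have h1 := ConcreteCategory.congr_hom (res_Psi θ (toTop (V j)) s hs (γ j) (w j)
    (by rw [toTop_left]; exact (w j).symm)) (H0 X F c)
  exact h1.symm.trans (h j _)

end Groth.Agent.Sga7.H510.SemiAct
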